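import Groth.Agent.RepDescLib.Basic
import Groth.Prelude.Def_AutFam
import Groth.Prelude.Def_Red
import Mathlib.CategoryTheory.Monoidal.Cartesian.Grp

/-!
The sheaf of families of homomorphisms.
-/

set_option autoImplicit false
set_option backward.isDefEq.respectTransparency false

noncomputable section

universe u

open CategoryTheory CategoryTheory.Limits MonoidalCategory CartesianMonoidalCategory AlgebraicGeometry
open scoped MonObj

namespace RepDescLib

variable {S : Scheme.{u}}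

theorem isPullback_wl (X : Over S) {T T' : Over S} (g : T' ⟶ T) :
    IsPullback (X ◁ g).left (pullback.snd X.hom T'.hom) (pullback.snd X.hom T.hom) g.left := by
  refine IsPullback.of_right ?_ ?_ (IsPullback.of_hasPullback X.hom T.hom)
  · rw [Over.w g, Over.whiskerLeft_left_fst]
    exact IsPullback.of_hasPullback X.hom T'.hom
  · exact Over.whiskerLeft_left_snd g

theorem fpqc_wl (X : Over S) {T T' : Over S} (g : T' ⟶ T) [DescLib.Fpqc g.left] : DescLib.Fpqc (X ◁ g).left :=
  DescLib.Fpqc.of_isPullback (isPullback_wl X g)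

theorem oimm_wl (X : Over S) {T T' : Over S} (g : T' ⟶ T) [IsOpenImmersion g.left] :
    IsOpenImmersion (X ◁ g).left :=
  MorphismProperty.of_isPullback (P := @IsOpenImmersion) (isPullback_wl X g).flip inferInstance

theorem cover_wl (X : Over S) {κ : Type u} {T : Over S} {U : κ → Over S} (j : ∀ i, U i ⟶ T)
    (hj : ∀ t, ∃ i, t ∈ Set.range (j i).left) (x : (X ⊗ T).left) : ∃ i, x ∈ Set.range (X ◁ j i).left := by
  obtain ⟨i, y, hy⟩ := hj (pullback.snd X.hom T.hom x)
  obtain ⟨z, hz, -⟩ := Scheme.exists_preimage_of_isPullback (isPullback_wl X (j i)) x y hy.symm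
  exact ⟨i, z, hz⟩

theorem hom_descend {T T' : Over S} (q : T' ⟶ T) [DescLib.Fpqc q.left] {Y : Over S} (f : T' ⟶ Y)
    (hf : ∀ (T'' : Over S) (a b : T'' ⟶ T'), a ≫ q = b ≫ q → a ≫ f = b ≫ f) : ∃! g : T ⟶ Y, q ≫ g = f := by
  have inv : ∀ {R : Scheme.{u}} (a b : R ⟶ T'.left), a ≫ q.left = b ≫ q.left → a ≫ f.left = b ≫ f.left := by
    intro R a b e
    exact congrArg Over.Hom.left (hf (Over.mk (a ≫ T'.hom)) (Over.homMk a) (Over.homMk b (by
      show b ≫ T'.hom = a ≫ T'.hom
      rw [← Over.w q, ← Category.assoc, ← e, Category.assoc])) (Over.OverMorphism.ext e))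
  let g₀ := EffectiveEpi.desc q.left f.left inv
  have hg₀ : q.left ≫ g₀ = f.left := EffectiveEpi.fac _ _ _
  refine ⟨Over.homMk g₀ ?_, Over.OverMorphism.ext hg₀, fun g hg => ?_⟩
  · apply (cancel_epi q.left).1
    rw [← Category.assoc, hg₀, Over.w f]
    exact (Over.w q).symm
  · exact Over.OverMorphism.ext ((cancel_epi q.left).1 ((congrArg Over.Hom.left hg).trans hg₀.symm))

theorem hom_glue {κ : Type u} {T : Over S} (U : κ → Over S) (j : ∀ i, U i ⟶ T)
    (hj : ∀ i, IsOpenImmersion (j i).left) (hcov : ∀ t, ∃ i, t ∈ Set.range (j i).left) {Y : Over S}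
    (f : ∀ i, U i ⟶ Y)
    (hf : ∀ (i i' : κ) (T'' : Over S) (a : T'' ⟶ U i) (b : T'' ⟶ U i'), a ≫ j i = b ≫ j i' → a ≫ f i = b ≫ f i') :
    ∃! g : T ⟶ Y, ∀ i, j i ≫ g = f i := by
  let 𝒰 : T.left.OpenCover := Scheme.Cover.mkOfCovers (P := @IsOpenImmersion) κ (fun i => (U i).left)
    (fun i => (j i).left) (fun t => (hcov t).imp fun i hi => hi) hj
  have agree : ∀ i i', pullback.fst (j i).left (j i').left ≫ (f i).left =
      pullback.snd (j i).left (j i').left ≫ (f i').left := fun i i' =>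
    congrArg Over.Hom.left (hf i i' (Over.mk (pullback.fst (j i).left (j i').left ≫ (U i).hom))
      (Over.homMk (pullback.fst (j i).left (j i').left)) (Over.homMk (pullback.snd (j i).left (j i').left) (by
        show pullback.snd _ _ ≫ (U i').hom = pullback.fst _ _ ≫ (U i).hom
        rw [← Over.w (j i), ← Over.w (j i'), pullback.condition_assoc]))
      (Over.OverMorphism.ext pullback.condition))
  let g₀ := 𝒰.glueMorphisms (fun i => (f i).left) agree
  have hg₀ : ∀ i, (j i).left ≫ g₀ = (f i).left := fun i => 𝒰.ι_glueMorphisms _ agree i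
  refine ⟨Over.homMk g₀ (𝒰.hom_ext _ _ fun i => ?_), fun i => Over.OverMorphism.ext (hg₀ i), fun g hg => ?_⟩
  · show (j i).left ≫ g₀ ≫ Y.hom = (j i).left ≫ T.hom
    rw [← Category.assoc, hg₀, Over.w (f i)]
    exact (Over.w (j i)).symm
  · exact Over.OverMorphism.ext (𝒰.hom_ext _ _ fun i => (congrArg Over.Hom.left (hg i)).trans (hg₀ i).symm)

variable (H G : Over S) [GrpObj H] [GrpObj G]

theorem isHomFamily_comp {T T' : Over S} (a : T' ⟶ T) {φ : H ⊗ T ⟶ G} (hφ : AutFam.IsHomFamily H G φ) :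
    AutFam.IsHomFamily H G ((H ◁ a) ≫ φ) := by
  intro X g₁ g₂ t
  simpa using hφ X g₁ g₂ (t ≫ a)

/-- Families of homomorphisms. -/
def homSec : Sec S where
  obj T := {φ : H ⊗ T ⟶ G // AutFam.IsHomFamily H G φ}
  res a φ := ⟨(H ◁ a) ≫ φ.1, isHomFamily_comp H G a φ.2⟩
  res_id φ := Subtype.ext (by simp)
  res_comp g h φ := Subtype.ext (by simp)

theorem isHomFamily_of_fpqc {T T' : Over S} (q : T' ⟶ T) [DescLib.Fpqc q.left] (φ : H ⊗ T ⟶ G)
    (h : AutFam.IsHomFamily H G ((H ◁ q) ≫ φ)) : AutFam.IsHomFamily H G φ := by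
  intro X g₁ g₂ t
  let X' : Over S := Over.mk (pullback.fst t.left q.left ≫ X.hom)
  let c : X' ⟶ X := Over.homMk (pullback.fst t.left q.left) rfl
  let t' : X' ⟶ T' := Over.homMk (pullback.snd t.left q.left) (by
    show pullback.snd t.left q.left ≫ T'.hom = pullback.fst t.left q.left ≫ X.hom
    rw [← Over.w q, ← pullback.condition_assoc, Over.w t])
  haveI : DescLib.Fpqc c.left := inferInstanceAs (DescLib.Fpqc (pullback.fst t.left q.left))
  have ht : t' ≫ q = c ≫ t := Over.OverMorphism.ext pullback.condition.symm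
  refine Over.OverMorphism.ext ((cancel_epi c.left).1 ?_)
  rw [← Over.comp_left, ← Over.comp_left]
  refine congrArg Over.Hom.left ?_
  have := h X' (c ≫ g₁) (c ≫ g₂) t'
  simpa [ht, MonObj.comp_mul, comp_lift_assoc] using this

theorem isHomFamily_of_cover {κ : Type u} {T : Over S} (U : κ → Over S) (j : ∀ i, U i ⟶ T)
    (hj : ∀ i, IsOpenImmersion (j i).left) (hcov : ∀ t, ∃ i, t ∈ Set.range (j i).left) (φ : H ⊗ T ⟶ G)
    (h : ∀ i, AutFam.IsHomFamily H G ((H ◁ j i) ≫ φ)) : AutFam.IsHomFamily H G φ := by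
  intro X g₁ g₂ t
  let X' : κ → Over S := fun i => Over.mk (pullback.fst t.left (j i).left ≫ X.hom)
  let c : ∀ i, X' i ⟶ X := fun i => Over.homMk (pullback.fst t.left (j i).left) rfl
  let t' : ∀ i, X' i ⟶ U i := fun i => Over.homMk (pullback.snd t.left (j i).left) (by
    show pullback.snd t.left (j i).left ≫ (U i).hom = pullback.fst t.left (j i).left ≫ X.hom
    rw [← Over.w (j i), ← pullback.condition_assoc, Over.w t])
  have ht : ∀ i, t' i ≫ j i = c i ≫ t := fun i => Over.OverMorphism.ext pullback.condition.symm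
  have hc : ∀ i, IsOpenImmersion (c i).left := fun i =>
    haveI := hj i
    inferInstanceAs (IsOpenImmersion (pullback.fst t.left (j i).left))
  have hcc : ∀ x, ∃ i, x ∈ Set.range (c i).left := fun x => by
    obtain ⟨i, y, hy⟩ := hcov (t.left x)
    obtain ⟨w, hw, -⟩ := Scheme.Pullback.exists_preimage_pullback (f := t.left) (g := (j i).left) x y hy.symm
    exact ⟨i, w, hw⟩
  refine (hom_glue X' c hc hcc (fun i => c i ≫ lift (g₁ * g₂) t ≫ φ) fun i i' T'' a b e => ?_).unique
    (fun i => rfl) fun i => ?_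
  · rw [← Category.assoc, e, Category.assoc]
  · have := h i (X' i) (c i ≫ g₁) (c i ≫ g₂) (t' i)
    simpa [ht, MonObj.comp_mul, comp_lift_assoc] using this.symm

theorem isSheaf_homSec : IsSheaf (homSec H G) where
  descend {T' T} q _ x hx := by
    haveI := fpqc_wl H q
    obtain ⟨g, hg, hu⟩ := hom_descend (H ◁ q) x.1 fun T'' a b e => by
      have e₁ : (a ≫ snd H T') ≫ q = (b ≫ snd H T') ≫ q := by
        simpa using e =≫ snd H T
      have e₂ : a ≫ fst H T' = b ≫ fst H T' := by simpa using e =≫ fst H T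
      have := congrArg Subtype.val (hx T'' (a ≫ snd H T') (b ≫ snd H T') e₁)
      have h3 := (lift (a ≫ fst H T') (𝟙 T'')) ≫= this
      simpa [homSec, e₂] using
        (show a ≫ x.1 = lift (a ≫ fst H T') (𝟙 T'') ≫ (H ◁ (a ≫ snd H T')) ≫ x.1 by simp).trans
          (h3.trans (show lift (a ≫ fst H T') (𝟙 T'') ≫ (H ◁ (b ≫ snd H T')) ≫ x.1 = b ≫ x.1 by simp [e₂]))
    refine ⟨⟨g, isHomFamily_of_fpqc H G q g (hg ▸ x.2)⟩, Subtype.ext hg, fun y hy => Subtype.ext (hu _ ?_)⟩
    exact congrArg Subtype.val hy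
  glue {κ T} U j hj hcov x hx := by
    obtain ⟨g, hg, hu⟩ := hom_glue (fun i => H ⊗ U i) (fun i => H ◁ j i)
      (fun i => haveI := hj i; oimm_wl H (j i)) (cover_wl H j hcov) (fun i => (x i).1) fun i i' T'' a b e => by
      have e₁ : (a ≫ snd H (U i)) ≫ j i = (b ≫ snd H (U i')) ≫ j i' := by
        simpa using e =≫ snd H T
      have e₂ : a ≫ fst H (U i) = b ≫ fst H (U i') := by simpa using e =≫ fst H T
      have := congrArg Subtype.val (hx i i' T'' (a ≫ snd H (U i)) (b ≫ snd H (U i')) e₁)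
      have h3 := (lift (a ≫ fst H (U i)) (𝟙 T'')) ≫= this
      exact (show a ≫ (x i).1 = lift (a ≫ fst H (U i)) (𝟙 T'') ≫ (H ◁ (a ≫ snd H (U i))) ≫ (x i).1 by simp).trans
        (h3.trans (show lift (a ≫ fst H (U i)) (𝟙 T'') ≫ (H ◁ (b ≫ snd H (U i'))) ≫ (x i').1 = b ≫ (x i').1 by
          simp [e₂]))
    refine ⟨⟨g, isHomFamily_of_cover H G U j hj hcov g fun i => hg i ▸ (x i).2⟩, fun i => Subtype.ext (hg i),
      fun y hy => Subtype.ext (hu _ fun i => congrArg Subtype.val (hy i))⟩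

theorem representsHom_of_rep {A : Over S} (u : (homSec H G).obj A)
    (h : ∀ (T : Over S) (s : (homSec H G).obj T), ∃! a : T ⟶ A, (homSec H G).res a u = s) :
    AutFam.RepresentsHom H G A u.1 :=
  ⟨u.2, fun T φ hφ => by
    obtain ⟨a, ha, hu⟩ := h T ⟨φ, hφ⟩
    exact ⟨a, congrArg Subtype.val ha, fun b hb => hu b (Subtype.ext hb)⟩⟩

/-- The universal family induced on the representing object is a group law in the parameter. -/
theorem isHomFamily_mul [IsCommMonObj G] {T : Over S} {φ ψ : H ⊗ T ⟶ G} (hφ : AutFam.IsHomFamily H G φ)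
    (hψ : AutFam.IsHomFamily H G ψ) : AutFam.IsHomFamily H G (φ * ψ) := by
  intro X g₁ g₂ t
  rw [MonObj.comp_mul, MonObj.comp_mul, MonObj.comp_mul, hφ, hψ, mul_mul_mul_comm]

theorem isHomFamily_one {T : Over S} : AutFam.IsHomFamily H G (1 : H ⊗ T ⟶ G) := by
  intro X g₁ g₂ t
  simp [MonObj.comp_one]

end RepDescLib
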