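import Groth.Agent.RepDescLib.ConstHom
import Groth.Agent.DescHomLib.Epi
import Groth.Agent.MultHomLib.FinGlobal
import Groth.Agent.GalTwLib.Grp
import Groth.Prelude.Def_ActBC

/-!
The group of characters of a commutative twisted constant group.
-/

set_option autoImplicit false
set_option backward.isDefEq.respectTransparency false

noncomputable section

universe u

open CategoryTheory CategoryTheory.Limits MonoidalCategory CartesianMonoidalCategory AlgebraicGeometry Opposite
open scoped MonObj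

namespace RepDescLib

variable {S : Scheme.{u}}

theorem sigma_hcov {κ : Type u} {V : κ → Scheme.{u}} {S' : Scheme.{u}} (j : ∀ i, V i ⟶ S')
    (hj : ∀ i, IsOpenImmersion (j i)) (hcov : ∀ x, ∃ i, x ∈ Set.range (j i)) (W : S'.Opens) (hW : IsAffineOpen W) :
    ∃ A : (∐ V).Opens, IsCompact (A : Set ↥(∐ V)) ∧
      (Limits.Sigma.desc j).base '' (A : Set ↥(∐ V)) = (W : Set S') := by
  let q := Limits.Sigma.desc j
  have hq : ∀ x : W, ∃ B : (∐ V).Opens, IsAffineOpen B ∧ x.1 ∈ q '' (B : Set ↥(∐ V)) ∧ B ≤ q ⁻¹ᵁ W := by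
    intro x
    obtain ⟨i, y, hy⟩ := hcov x.1
    have hqy : q (Sigma.ι V i y) = x.1 := by rw [← Scheme.Hom.comp_apply, Sigma.ι_desc, hy]
    obtain ⟨B, hB, hyB, hBW⟩ := exists_isAffineOpen_mem_and_subset (X := ∐ V) (x := Sigma.ι V i y)
      (U := q ⁻¹ᵁ W) (by show q (Sigma.ι V i y) ∈ W; rw [hqy]; exact x.2)
    exact ⟨B, hB, ⟨_, hyB, hqy⟩, hBW⟩
  choose B hB hxB hBW using hq
  haveI : UniversallyOpen q := by
    haveI : ∀ i, IsOpenImmersion (j i) := hj
    refine IsZariskiLocalAtSource.of_openCover (P := @UniversallyOpen) (sigmaOpenCover V) fun i => ?_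
    change UniversallyOpen (Sigma.ι V i ≫ q)
    rw [Sigma.ι_desc]
    infer_instance
  obtain ⟨s, hs⟩ := hW.isCompact.elim_finite_subcover (fun x : W => q '' (B x : Set ↥(∐ V)))
    (fun x => q.isOpenMap _ (B x).isOpen) fun z hz => Set.mem_iUnion.2 ⟨⟨z, hz⟩, hxB ⟨z, hz⟩⟩
  refine ⟨⨆ x : s, B x.1, ?_, Set.Subset.antisymm ?_ ?_⟩
  · rw [TopologicalSpace.Opens.coe_iSup]
    exact isCompact_iUnion fun x => (hB x.1).isCompact
  · rintro _ ⟨z, hz, rfl⟩
    obtain ⟨x, hx⟩ := TopologicalSpace.Opens.mem_iSup.1 hz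
    exact hBW x.1 hx
  · intro z hz
    obtain ⟨x, hx, w, hw, rfl⟩ := Set.mem_iUnion₂.1 (hs hz)
    exact ⟨w, TopologicalSpace.Opens.mem_iSup.2 ⟨⟨x, hx⟩, hw⟩, rfl⟩

/-- An fpqc covering refined by open pieces is an fpqc covering. -/
theorem fpqc_pieces {S' : Scheme.{u}} (f : S' ⟶ S) [Flat f] [Surjective f]
    (hcov : ∀ V : S.Opens, IsAffineOpen V → ∃ W : S'.Opens, IsCompact (W : Set S') ∧ f.base '' (W : Set S') = (V : Set S))
    {κ : Type u} (U : κ → S'.Opens) (hU : ∀ x, ∃ i, x ∈ U i) :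
    DescLib.Fpqc (Limits.Sigma.desc fun i => (U i).ι ≫ f) := by
  let q := Limits.Sigma.desc fun i => (U i).ι
  have e : (Limits.Sigma.desc fun i => (U i).ι ≫ f) = q ≫ f := Sigma.hom_ext _ _ fun i => by simp [q]
  rw [e]
  haveI : Flat q := by
    refine IsZariskiLocalAtSource.of_openCover (P := @Flat) (sigmaOpenCover _) fun i => ?_
    change Flat (Sigma.ι _ i ≫ q)
    rw [Sigma.ι_desc]
    infer_instance
  haveI : Surjective q := ⟨fun x => by
    obtain ⟨i, hi⟩ := hU x
    exact ⟨Sigma.ι (fun i => (U i).toScheme) i ⟨x, hi⟩, by rw [← Scheme.Hom.comp_apply, Sigma.ι_desc]; rfl⟩⟩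
  exact ⟨Groth.Agent.DescHom.singleton_mem_fpqc (q ≫ f) (Groth.Agent.MultHom.hcov_comp q f
    (sigma_hcov (fun i => (U i).ι) (fun i => inferInstance) fun x => (hU x).imp fun i hi => ⟨⟨x, hi⟩, rfl⟩) hcov)⟩

variable {R : Over S} [GrpObj R]

/-- The chart of a constant group. -/
def chartOfIso {U : Scheme.{u}} (f : U ⟶ S) {M : Type} [Group M] (e : Red.bc f R ≅ TwC.const U M)
    (he : TwC.IsConstGrp M (Red.bc f R) e) : ConstChart R ((Over.map f).obj (𝟙_ (Over U))) M where
  sec m := ((Over.mapPullbackAdj f).homEquiv (𝟙_ (Over U)) R).symm (TwC.pt U M m ≫ e.inv)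
  sec_mul m n := by
    apply ((Over.mapPullbackAdj f).homEquiv (𝟙_ (Over U)) R).injective
    rw [AlgGrp.Action.homEquiv_mul, Equiv.apply_symm_apply, Equiv.apply_symm_apply, Equiv.apply_symm_apply]
    exact (he m n).symm
  proj {T} x r := pullback.lift r.left x.left (by
      rw [Over.w r, ← Over.w x]
      exact congrArg (x.left ≫ ·) (Category.id_comp f)) ≫ e.hom.left
  sec_spec {T} x r m := by
    haveI : IsIso e.hom.left := inferInstanceAs (IsIso ((Over.forget U).map e.hom))
    have hsec : (((Over.mapPullbackAdj f).homEquiv (𝟙_ (Over U)) R).symm (TwC.pt U M m ≫ e.inv)).left =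
        (TwC.pt U M m ≫ e.inv).left ≫ pullback.fst R.hom f := by
      rw [Adjunction.homEquiv_counit]
      simp [Over.mapPullbackAdj]
    have hinv : Sigma.ι (fun _ : M => U) m ≫ e.inv.left = (TwC.pt U M m ≫ e.inv).left := rfl
    have he' : e.inv.left ≫ e.hom.left = 𝟙 _ := by
      rw [← Over.comp_left, e.inv_hom_id]; rfl
    constructor
    · intro h
      have h' : pullback.lift r.left x.left _ ≫ e.hom.left = x.left ≫ Sigma.ι (fun _ : M => U) m := h
      have h1 : pullback.lift r.left x.left _ = x.left ≫ (TwC.pt U M m ≫ e.inv).left :=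
        (cancel_mono e.hom.left).1 (h'.trans (by
          rw [← hinv, Category.assoc, Category.assoc, he']; exact (congrArg (x.left ≫ ·) (Category.comp_id _)).symm))
      apply Over.OverMorphism.ext
      rw [Over.comp_left, hsec, ← Category.assoc, ← h1, pullback.lift_fst]
    · intro h
      show pullback.lift r.left x.left _ ≫ e.hom.left = x.left ≫ Sigma.ι (fun _ : M => U) m
      have h1 : pullback.lift r.left x.left (by
          rw [Over.w r, ← Over.w x]; exact congrArg (x.left ≫ ·) (Category.id_comp f)) =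
          x.left ≫ (TwC.pt U M m ≫ e.inv).left := by
        apply pullback.hom_ext
        · rw [pullback.lift_fst, h, Over.comp_left, hsec, Category.assoc]
        · rw [pullback.lift_snd, Category.assoc]
          exact ((congrArg (x.left ≫ ·) (Over.w (TwC.pt U M m ≫ e.inv))).trans (Category.comp_id _)).symm
      rw [h1, ← hinv, Category.assoc, Category.assoc, he']
      exact congrArg (x.left ≫ ·) (Category.comp_id _)
  proj_natural {T' T} a x r := by
    rw [← Category.assoc]
    congr 1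
    apply pullback.hom_ext <;> simp
  proj_desc {T} x r := by
    rw [Category.assoc]
    exact (congrArg (pullback.lift r.left x.left _ ≫ ·) (Over.w e.hom)).trans (pullback.lift_snd _ _ _)

/-- The group of families of characters. -/
def famGroup (R : Over S) [GrpObj R] (T : Over S) : Subgroup (R ⊗ T ⟶ Red.Gm S) where
  carrier := {φ | AutFam.IsHomFamily R (Red.Gm S) φ}
  mul_mem' h h' := isHomFamily_gm_mul h h'
  one_mem' := isHomFamily_one R (Red.Gm S)
  inv_mem' {φ} h := by
    intro X g₁ g₂ t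
    rw [GrpObj.comp_inv, GrpObj.comp_inv, GrpObj.comp_inv, h, _root_.mul_inv_rev, gm_comm]

variable (R) in
/-- The group valued functor of characters. -/
def famFun : (Over S)ᵒᵖ ⥤ GrpCat.{u} where
  obj T := GrpCat.of (famGroup R T.unop)
  map {T T'} a := GrpCat.ofHom (MonoidHom.mk' (fun φ => ⟨(R ◁ a.unop) ≫ φ.1, isHomFamily_comp R _ a.unop φ.2⟩)
    fun φ ψ => Subtype.ext (MonObj.comp_mul _ _ _))
  map_id T := GrpCat.ext fun φ => Subtype.ext (by simp)
  map_comp a b := GrpCat.ext fun φ => Subtype.ext (by simp)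

theorem isMonHom_of_mul {C : Type*} [Category C] [CartesianMonoidalCategory C] {X Y : C} [GrpObj X] [GrpObj Y]
    (f : X ⟶ Y) (h : ∀ (T : C) (x y : T ⟶ X), (x * y) ≫ f = (x ≫ f) * (y ≫ f)) : IsMonHom f where
  one_hom := by
    have h1 := h (𝟙_ C) 1 1
    rw [_root_.mul_one, left_eq_mul] at h1
    simpa [MonObj.one_eq_one] using h1
  mul_hom := by
    have h1 := h (X ⊗ X) (fst X X) (snd X X)
    rw [Hom.mul_def, Hom.mul_def, lift_fst_snd, Category.id_comp] at h1
    rw [h1]
    congr 1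
    ext <;> simp

theorem grp_iso_of_hom {C : Type*} [Category C] [CartesianMonoidalCategory C] {X Y : C} [GrpObj X] [GrpObj Y]
    (f : X ⟶ Y) [IsIso f] [IsMonHom f] : Nonempty (Grp.mk X ≅ Grp.mk Y) :=
  ⟨Grp.mkIso (asIso f) (IsMonHom.one_hom f) (IsMonHom.mul_hom f)⟩

/-- The extension of a character to the abelianization, additively. -/
def extChar {M : Type} [Group M] {A : Type u} [CommRing A] (χ : M →* Aˣ) :
    Multiplicative (Additive (Abelianization M)) →* A :=
  (Units.coeHom A).comp ((Abelianization.lift χ).comp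
    (MonoidHom.mk' (fun y => Additive.toMul (Multiplicative.toAdd y)) fun _ _ => rfl))

/-- The class of an element. -/
def clsOf {M : Type} [Group M] : M →* Multiplicative (Additive (Abelianization M)) :=
  MonoidHom.mk' (fun m => Multiplicative.ofAdd (Additive.ofMul (Abelianization.of m))) fun m n => by simp [map_mul]

theorem clsOf_surjective {M : Type} [Group M] : Function.Surjective (clsOf (M := M)) := fun y => by
  obtain ⟨m, hm⟩ := QuotientGroup.mk'_surjective _ (Additive.toMul (Multiplicative.toAdd y))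
  refine ⟨m, ?_⟩
  show Multiplicative.ofAdd (Additive.ofMul _) = y
  rw [show Abelianization.of m = Additive.toMul (Multiplicative.toAdd y) from hm]
  rfl

theorem extChar_clsOf {M : Type} [Group M] {A : Type u} [CommRing A] (χ : M →* Aˣ) (m : M) :
    extChar χ (clsOf m) = (χ m : A) := by
  simp [extChar, clsOf]

theorem extChar_mul {M : Type} [Group M] {A : Type u} [CommRing A] (χ χ' : M →* Aˣ) :
    extChar (χ * χ') = extChar χ * extChar χ' := MonoidHom.ext fun y => by
  obtain ⟨m, rfl⟩ := clsOf_surjective y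
  simp [extChar_clsOf]

theorem gmInv_natural {T' T : Over S} (c : T' ⟶ T) (h : T ⟶ Red.Gm S) :
    gmInv (c ≫ h) = Units.map c.left.appTop.hom.toMonoidHom (gmInv h) := by
  conv_lhs => rw [← gmPt_gmInv h, DSPtsLib.gmPt_natural, gmInv_gmPt]

/-- Over a piece, the group of characters is diagonalisable. -/
theorem exists_iso_piece {U : Scheme.{u}} (g : U ⟶ S) {M : Type} [Group M]
    (C : ConstChart R ((Over.map g).obj (𝟙_ (Over U))) M) {D : Over S} [GrpObj D] (u₀ : (homSec R (Red.Gm S)).obj D)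
    (huniv : ∀ (T : Over S) (s : (homSec R (Red.Gm S)).obj T), ∃! a : T ⟶ D, (homSec R (Red.Gm S)).res a u₀ = s)
    (hmul : ∀ (T : Over S) (a b : T ⟶ D), (R ◁ (a * b)) ≫ u₀.1 = ((R ◁ a) ≫ u₀.1) * ((R ◁ b) ≫ u₀.1)) :
    Nonempty (Grp.mk (Red.bc g D) ≅ Grp.mk (Red.DS U (Additive (Abelianization M)))) := by
  let adj := Over.mapPullbackAdj g
  let xx : ∀ (T : Over U), (Over.map g).obj T ⟶ (Over.map g).obj (𝟙_ _) :=
    fun T => (Over.map g).map (toUnit T)
  let fam : ∀ {T : Over U}, (T ⟶ Red.bc g D) → (homSec R (Red.Gm S)).obj ((Over.map g).obj T) :=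
    fun {T} a => (homSec R (Red.Gm S)).res ((adj.homEquiv T D).symm a) u₀
  let ch : ∀ {T : Over U}, (T ⟶ Red.bc g D) → (M →* (Γ(T.left, ⊤))ˣ) :=
    fun {T} a => charOf C (xx T) (fam a).1 (fam a).2
  let Φ : ∀ {T : Over U}, (T ⟶ Red.bc g D) → (T ⟶ Red.DS U (Additive (Abelianization M))) :=
    fun a => DSPtsLib.dsPt (extChar (ch a))
  have hΦmul : ∀ {T : Over U} (a b : T ⟶ Red.bc g D), Φ (a * b) = Φ a * Φ b := by
    intro T a b
    show DSPtsLib.dsPt _ = DSPtsLib.dsPt _ * DSPtsLib.dsPt _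
    rw [← DSPtsLib.dsPt_mul, ← extChar_mul]
    refine congrArg (fun χ => DSPtsLib.dsPt (extChar χ)) (MonoidHom.ext fun m => ?_)
    show gmInv (piece C (xx T) m ≫ (R ◁ (adj.homEquiv T D).symm (a * b)) ≫ u₀.1) =
      gmInv (piece C (xx T) m ≫ (fam a).1) * gmInv (piece C (xx T) m ≫ (fam b).1)
    have : (adj.homEquiv T D).symm (a * b) = (adj.homEquiv T D).symm a * (adj.homEquiv T D).symm b := by
      apply (adj.homEquiv T D).injective
      rw [AlgGrp.Action.homEquiv_mul, Equiv.apply_symm_apply, Equiv.apply_symm_apply, Equiv.apply_symm_apply]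
    rw [this, hmul, MonObj.comp_mul, gmInv_mul]
    rfl
  have hΦnat : ∀ {T' T : Over U} (c : T' ⟶ T) (a : T ⟶ Red.bc g D), Φ (c ≫ a) = c ≫ Φ a := by
    intro T' T c a
    show DSPtsLib.dsPt _ = c ≫ DSPtsLib.dsPt _
    rw [DSPtsLib.dsPt_natural]
    refine congrArg DSPtsLib.dsPt (MonoidHom.ext fun y => ?_)
    obtain ⟨m, rfl⟩ := clsOf_surjective y
    rw [MonoidHom.comp_apply, extChar_clsOf, extChar_clsOf]
    show ((gmInv (piece C (xx T') m ≫ (fam (c ≫ a)).1) : (Γ(((Over.map g).obj T').left, ⊤))ˣ) : Γ(((Over.map g).obj T').left, ⊤)) = _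
    have h1 : (fam (c ≫ a)).1 = (R ◁ (Over.map g).map c) ≫ (fam a).1 := by
      show (R ◁ (adj.homEquiv T' D).symm (c ≫ a)) ≫ u₀.1 = _
      rw [Adjunction.homEquiv_naturality_left_symm, MonoidalCategory.whiskerLeft_comp, Category.assoc]
      rfl
    have hx : xx T' = (Over.map g).map c ≫ xx T := by
      show (Over.map g).map (toUnit T') = (Over.map g).map c ≫ (Over.map g).map (toUnit T)
      rw [← Functor.map_comp, toUnit_unique (c ≫ toUnit T) (toUnit T')]
    rw [h1, hx, ← Category.assoc, piece_natural, Category.assoc, gmInv_natural]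
    rfl
  have hΦbij : ∀ (T : Over U), Function.Bijective (Φ (T := T)) := by
    intro T
    constructor
    · intro a b hab
      have h1 := (DSPtsLib.dsPt_bijective (M := Additive (Abelianization M)) T).1 hab
      have h2 : fam a = fam b := Subtype.ext (hom_ext_piece C (xx T) fun m => by
        have h3 := DFunLike.congr_fun h1 (clsOf m)
        rw [extChar_clsOf, extChar_clsOf] at h3
        have h4 : gmInv (piece C (xx T) m ≫ (fam a).1) = gmInv (piece C (xx T) m ≫ (fam b).1) := Units.ext h3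
        rw [← gmPt_gmInv (piece C (xx T) m ≫ (fam a).1), h4, gmPt_gmInv])
      exact (adj.homEquiv T D).symm.injective ((huniv _ _).unique h2 rfl)
    · intro y
      obtain ⟨χ, rfl⟩ := (DSPtsLib.dsPt_bijective (M := Additive (Abelianization M)) T).2 y
      obtain ⟨φ, hφ⟩ := exists_glue_piece C (xx T)
        fun m => DSPtsLib.gmPt (S := S) (T := (Over.map g).obj T) (χ.toHomUnits (clsOf m))
      have hfam : AutFam.IsHomFamily R (Red.Gm S) φ := (isHomFamily_iff C (xx T) φ).2 fun m n => by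
        rw [hφ, hφ, hφ, ← DSPtsLib.gmPt_mul, map_mul, map_mul]
      obtain ⟨a, ha⟩ := (huniv ((Over.map g).obj T) ⟨φ, hfam⟩).exists
      refine ⟨adj.homEquiv T D a, congrArg DSPtsLib.dsPt (MonoidHom.ext fun y => ?_)⟩
      obtain ⟨m, rfl⟩ := clsOf_surjective y
      rw [extChar_clsOf]
      have h5 : (fam (adj.homEquiv T D a)).1 = φ := by
        show (R ◁ (adj.homEquiv T D).symm (adj.homEquiv T D a)) ≫ u₀.1 = φ
        rw [Equiv.symm_apply_apply]
        exact congrArg Subtype.val ha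
      show ((gmInv (piece C (xx T) m ≫ (fam (adj.homEquiv T D a)).1) : (Γ(((Over.map g).obj T).left, ⊤))ˣ) : Γ(((Over.map g).obj T).left, ⊤)) = _
      rw [h5, hφ, gmInv_gmPt]
      rfl
  let θ : Red.bc g D ⟶ Red.DS U (Additive (Abelianization M)) := Φ (𝟙 _)
  have hθ : ∀ {T : Over U} (a : T ⟶ Red.bc g D), a ≫ θ = Φ a := fun a => by
    rw [← hΦnat, Category.comp_id]
  haveI : IsIso θ := isIso_of_yoneda_map_bijective θ fun T => by
    have : (fun x : T ⟶ Red.bc g D => x ≫ θ) = Φ := funext fun a => hθ a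
    rw [this]
    exact hΦbij T
  haveI : IsMonHom θ := isMonHom_of_mul θ fun _ a b => by rw [hθ, hΦmul, ← hθ, ← hθ]
  exact grp_iso_of_hom θ

theorem exists_dual {S' : Scheme.{u}} (f : S' ⟶ S) [Flat f] [Surjective f]
    (hcov : ∀ V : S.Opens, IsAffineOpen V → ∃ W : S'.Opens, IsCompact (W : Set S') ∧ f.base '' (W : Set S') = (V : Set S))
    (hloc : ∀ s' : S', ∃ U : S'.Opens, s' ∈ U ∧ ∃ (M : Type) (_ : Group M) (e : Red.bc (U.ι ≫ f) R ≅ TwC.const U M),
      TwC.IsConstGrp M (Red.bc (U.ι ≫ f) R) e) :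
    ∃ (D : Over S) (_ : GrpObj D) (υ : R ⊗ D ⟶ Red.Gm S), AutFam.RepresentsHom R (Red.Gm S) D υ ∧
      (∀ (X : Over S) (r : X ⟶ R) (a b : X ⟶ D), lift r (a * b) ≫ υ = (lift r a ≫ υ) * (lift r b ≫ υ)) ∧
      (∀ s' : S', ∃ U : S'.Opens, s' ∈ U ∧ ∃ (M : Type) (_ : AddCommGroup M),
        Nonempty (Grp.mk (Red.bc (U.ι ≫ f) D) ≅ Grp.mk (Red.DS (U : Scheme.{u}) M))) := by
  choose U hxU M instM e he using hloc
  let C : ∀ s', ConstChart R ((Over.map ((U s').ι ≫ f)).obj (𝟙_ (Over (U s').toScheme))) (M s') :=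
    fun s' => chartOfIso _ (e s') (he s')
  choose A π u hrep haff using fun s' => exists_isRepOver_chart (C s')
  obtain ⟨A', π', u', hrep', ε, hπ'⟩ := isRepOver_sigma (isSheaf_homSec R (Red.Gm S)) π u hrep
  let P : Over S := Over.mk (Limits.Sigma.desc fun s' => ((Over.map ((U s').ι ≫ f)).obj (𝟙_ (Over (U s').toScheme))).hom)
  have hPhom : P.hom = Limits.Sigma.desc fun s' => (U s').ι ≫ f :=
    Sigma.hom_ext _ _ fun s' => by
    simp [P]
  haveI : DescLib.Fpqc P.hom := by
    rw [hPhom]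
    exact fpqc_pieces f hcov U fun x => ⟨x, hxU x⟩
  haveI : IsAffineHom π'.left := by
    rw [hπ']
    haveI := DescLib.property_sigmaMap @IsAffineHom (fun s' => (π s').left) haff
    infer_instance
  obtain ⟨D, u₀, q, huniv, -, -⟩ := exists_rep_of_cover (P := P) (isSheaf_homSec R (Red.Gm S)) hrep' fun D hD => by
    haveI : IsAffineHom D.obj.hom := by rw [hD]; exact ‹IsAffineHom π'.left›
    exact DescLib.effective_of_isAffineHom D
  let rep : (famFun R ⋙ forget GrpCat.{u}).RepresentableBy D :=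
    { homEquiv := fun {T} => Equiv.ofBijective (fun a => (homSec R (Red.Gm S)).res a u₀)
        ⟨fun a b hab => (huniv T _).unique hab rfl, fun s => (huniv T s).exists⟩
      homEquiv_comp := fun a b => (homSec R (Red.Gm S)).res_comp a b u₀ }
  letI grpD : GrpObj D := GrpObj.ofRepresentableBy D (famFun R) rep
  have hmul : ∀ (T : Over S) (a b : T ⟶ D), (R ◁ (a * b)) ≫ u₀.1 = ((R ◁ a) ≫ u₀.1) * ((R ◁ b) ≫ u₀.1) :=
    fun T a b => congrArg Subtype.val (GalTwLib.homEquiv_mul rep a b)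
  refine ⟨D, grpD, u₀.1, representsHom_of_rep R (Red.Gm S) u₀ huniv, fun X r a b => ?_, fun s' =>
    ⟨U s', hxU s', Additive (Abelianization (M s')), inferInstance, ?_⟩⟩
  · have := lift r (𝟙 X) ≫= hmul X a b
    simpa [MonObj.comp_mul] using this
  exact exists_iso_piece ((U s').ι ≫ f) (C s') u₀ huniv hmul

end RepDescLib
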