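import Groth.Agent.DescLib.Family
import Groth.Agent.DescLib.Main
import Mathlib.CategoryTheory.Monoidal.Cartesian.Over

/-!
Representability of a sheaf of sets is local for coverings along which descent is effective.
-/

set_option autoImplicit false
set_option backward.isDefEq.respectTransparency false

noncomputable section

universe u

open CategoryTheory CategoryTheory.Limits AlgebraicGeometry

namespace RepDescLib

/-- A presheaf of sets on schemes over a base. -/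
structure Sec (S : Scheme.{u}) where
  /-- the sections -/
  obj : Over S → Type u
  /-- restriction -/
  res : ∀ {T' T : Over S}, (T' ⟶ T) → obj T → obj T'
  res_id : ∀ {T : Over S} (s : obj T), res (𝟙 T) s = s
  res_comp : ∀ {T'' T' T : Over S} (g : T'' ⟶ T') (h : T' ⟶ T) (s : obj T), res (g ≫ h) s = res g (res h s)

variable {S : Scheme.{u}} (F : Sec S)

/-- Descent of sections along single coverings and along open covers. -/
structure IsSheaf : Prop where
  descend : ∀ {T' T : Over S} (q : T' ⟶ T) [DescLib.Fpqc q.left] (x : F.obj T'),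
    (∀ (T'' : Over S) (a b : T'' ⟶ T'), a ≫ q = b ≫ q → F.res a x = F.res b x) → ∃! y, F.res q y = x
  glue : ∀ {ι : Type u} {T : Over S} (U : ι → Over S) (j : ∀ i, U i ⟶ T), (∀ i, IsOpenImmersion (j i).left) →
    (∀ t, ∃ i, t ∈ Set.range (j i).left) → ∀ x : ∀ i, F.obj (U i),
    (∀ (i i' : ι) (T'' : Over S) (a : T'' ⟶ U i) (b : T'' ⟶ U i'), a ≫ j i = b ≫ j i' →
      F.res a (x i) = F.res b (x i')) → ∃! y, ∀ i, F.res (j i) y = x i

/-- The sheaf restricted to schemes over `P` is represented by `π : A ⟶ P` with universal section `u`. -/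
def IsRepOver {P A : Over S} (π : A ⟶ P) (u : F.obj A) : Prop :=
  ∀ (T : Over S) (x : T ⟶ P) (s : F.obj T), ∃! a : T ⟶ A, a ≫ π = x ∧ F.res a u = s

variable {F} {P A : Over S} {π : A ⟶ P} {u : F.obj A}

theorem IsRepOver.hom_ext (h : IsRepOver F π u) {T : Over S} {a b : T ⟶ A} (e₁ : a ≫ π = b ≫ π)
    (e₂ : F.res a u = F.res b u) : a = b :=
  (h T (b ≫ π) (F.res b u)).unique ⟨e₁, e₂⟩ ⟨rfl, rfl⟩

theorem isRepOver_base {A₀ : Over S} {u₀ : F.obj A₀} (h : ∀ (T : Over S) (s : F.obj T), ∃! a : T ⟶ A₀, F.res a u₀ = s) :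
    IsRepOver F (Over.mkIdTerminal.from A₀) u₀ := fun T x s => by
  obtain ⟨a, ha, hu⟩ := h T s
  exact ⟨a, ⟨Over.mkIdTerminal.hom_ext _ _, ha⟩, fun b hb => hu b hb.2⟩

/-- Effective descent glues a representing object on a covering to one on the base. -/
theorem exists_rep_of_cover (hF : IsSheaf F) [DescLib.Fpqc P.hom] (h : IsRepOver F π u)
    (heff : ∀ D : Desc.SchDD P.hom, D.obj = Over.mk π.left →
      ∃ U : Over S, Nonempty ((Desc.toDD P.hom).obj U ≅ D)) :
    ∃ (A₀ : Over S) (u₀ : F.obj A₀) (q : A ⟶ A₀), (∀ (T : Over S) (s : F.obj T), ∃! a : T ⟶ A₀, F.res a u₀ = s) ∧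
      F.res q u₀ = u ∧ IsPullback q.left π.left A₀.hom P.hom := by
  -- the gluing on points
  have ex : ∀ {T : Scheme.{u}} (x₀ x₁ : T ⟶ P.left) (e : x₀ ≫ P.hom = x₁ ≫ P.hom) (v : T ⟶ A.left)
      (hv : v ≫ π.left = x₀), ∃! w : T ⟶ A.left, w ≫ π.left = x₁ ∧
        ∃ (a b : Over.mk (x₀ ≫ P.hom) ⟶ A), a.left = v ∧ b.left = w ∧ F.res a u = F.res b u := by
    intro T x₀ x₁ e v hv
    let a : Over.mk (x₀ ≫ P.hom) ⟶ A := Over.homMk v (by
      show v ≫ A.hom = x₀ ≫ P.hom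
      rw [← Over.w π, ← Category.assoc, hv])
    obtain ⟨b, ⟨hb, hb'⟩, hu⟩ := h (Over.mk (x₀ ≫ P.hom)) (Over.homMk x₁ e.symm) (F.res a u)
    refine ⟨b.left, ⟨congrArg Over.Hom.left hb, a, b, rfl, rfl, hb'.symm⟩, ?_⟩
    rintro w ⟨hw, a', b', ha', rfl, hab⟩
    obtain rfl : a' = a := Over.OverMorphism.ext ha'
    exact congrArg Over.Hom.left (hu b' ⟨Over.OverMorphism.ext hw, hab.symm⟩)
  let m : ∀ {T : Scheme.{u}} (x₀ x₁ : T ⟶ P.left), x₀ ≫ P.hom = x₁ ≫ P.hom →
      Desc.Lifts (Over.mk π.left) x₀ → Desc.Lifts (Over.mk π.left) x₁ := fun {T} x₀ x₁ e v =>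
    ⟨(ex x₀ x₁ e v.1 v.2).choose, (ex x₀ x₁ e v.1 v.2).choose_spec.1.1⟩
  -- the defining property
  have mspec : ∀ {T : Over S} (x₀ x₁ : T.left ⟶ P.left) (e : x₀ ≫ P.hom = x₁ ≫ P.hom)
      (v : Desc.Lifts (Over.mk π.left) x₀) (w : Desc.Lifts (Over.mk π.left) x₁) (a b : T ⟶ A),
      a.left = v.1 → b.left = w.1 → (F.res a u = F.res b u ↔ m x₀ x₁ e v = w) := by
    intro T x₀ x₁ e v w a b ha hb
    have hT : x₀ ≫ P.hom = T.hom := by
      rw [← show v.1 ≫ π.left = x₀ from v.2, Category.assoc, Over.w π, ← ha, Over.w]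
    let i : Over.mk (x₀ ≫ P.hom) ⟶ T := Over.homMk (𝟙 _) (by
      show 𝟙 _ ≫ T.hom = x₀ ≫ P.hom
      rw [Category.id_comp, hT])
    let i' : T ⟶ Over.mk (x₀ ≫ P.hom) := Over.homMk (𝟙 _) (by
      show 𝟙 _ ≫ x₀ ≫ P.hom = T.hom
      rw [Category.id_comp, hT])
    constructor
    · intro hab
      refine Subtype.ext (((ex x₀ x₁ e v.1 v.2).choose_spec.2 w.1 ⟨w.2, i ≫ a, i ≫ b, ?_, ?_, ?_⟩).symm)
      · exact (Category.id_comp _).trans ha
      · exact (Category.id_comp _).trans hb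
      · rw [F.res_comp, F.res_comp, hab]
    · intro hm
      obtain ⟨a', b', ha', hb', hab⟩ := (ex x₀ x₁ e v.1 v.2).choose_spec.1.2
      have h₁ : a = i' ≫ a' := Over.OverMorphism.ext (by
        show a.left = 𝟙 _ ≫ a'.left
        rw [Category.id_comp, ha, ha'])
      have h₂ : b = i' ≫ b' := Over.OverMorphism.ext (by
        show b.left = 𝟙 _ ≫ b'.left
        rw [Category.id_comp, hb, hb', ← hm])
      rw [h₁, h₂, F.res_comp, F.res_comp, hab]
  -- morphisms over the base for lifts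
  have mk' : ∀ {T : Scheme.{u}} (x₀ x : T ⟶ P.left) (_ : x₀ ≫ P.hom = x ≫ P.hom) (v : Desc.Lifts (Over.mk π.left) x),
      ∃ a : Over.mk (x₀ ≫ P.hom) ⟶ A, a.left = v.1 := fun {T} x₀ x e v => ⟨Over.homMk v.1 (by
    show v.1 ≫ A.hom = x₀ ≫ P.hom
    rw [← Over.w π, ← Category.assoc, show v.1 ≫ π.left = x from v.2, e]), rfl⟩
  have mself : ∀ {T : Scheme.{u}} (x : T ⟶ P.left) (v : Desc.Lifts (Over.mk π.left) x), m x x rfl v = v := by
    intro T x v
    obtain ⟨a, ha⟩ := mk' x x rfl v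
    exact (mspec (T := Over.mk (x ≫ P.hom)) x x rfl v v a a ha ha).1 rfl
  have mcomp : ∀ {T : Scheme.{u}} (x₀ x₁ x₂ : T ⟶ P.left) (e₁ : x₀ ≫ P.hom = x₁ ≫ P.hom)
      (e₂ : x₁ ≫ P.hom = x₂ ≫ P.hom) (v : Desc.Lifts (Over.mk π.left) x₀),
      m x₁ x₂ e₂ (m x₀ x₁ e₁ v) = m x₀ x₂ (e₁.trans e₂) v := by
    intro T x₀ x₁ x₂ e₁ e₂ v
    obtain ⟨a, ha⟩ := mk' x₀ x₀ rfl v
    obtain ⟨b, hb⟩ := mk' x₀ x₁ e₁ (m x₀ x₁ e₁ v)
    obtain ⟨c, hc⟩ := mk' x₀ x₂ (e₁.trans e₂) (m x₁ x₂ e₂ (m x₀ x₁ e₁ v))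
    have h₁ := (mspec (T := Over.mk (x₀ ≫ P.hom)) x₀ x₁ e₁ v _ a b ha hb).2 rfl
    have h₂ := (mspec (T := Over.mk (x₀ ≫ P.hom)) x₁ x₂ e₂ _ _ b c hb hc).2 rfl
    exact ((mspec (T := Over.mk (x₀ ≫ P.hom)) x₀ x₂ (e₁.trans e₂) v _ a c ha hc).1 (h₁.trans h₂)).symm
  let D : Desc.SchDD P.hom :=
    { obj := Over.mk π.left
      φ := fun T x₀ x₁ e =>
        { toFun := m x₀ x₁ e
          invFun := m x₁ x₀ e.symm
          left_inv := fun v => (mcomp x₀ x₁ x₀ e e.symm v).trans (mself x₀ v)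
          right_inv := fun v => (mcomp x₁ x₀ x₁ e.symm e v).trans (mself x₁ v) }
      φ_natural := by
        intro T T' g x₀ x₁ e e' v v' hv'
        obtain ⟨a, ha⟩ := mk' x₀ x₀ rfl v
        obtain ⟨b, hb⟩ := mk' x₀ x₁ e (m x₀ x₁ e v)
        have hab := (mspec (T := Over.mk (x₀ ≫ P.hom)) x₀ x₁ e v _ a b ha hb).2 rfl
        let g' : Over.mk ((g ≫ x₀) ≫ P.hom) ⟶ Over.mk (x₀ ≫ P.hom) := Over.homMk g (Category.assoc _ _ _).symm
        have hw : (g ≫ (m x₀ x₁ e v).1) ≫ π.left = g ≫ x₁ := by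
          rw [Category.assoc]; exact congrArg (g ≫ ·) (m x₀ x₁ e v).2
        have key : m (g ≫ x₀) (g ≫ x₁) e' v' = ⟨g ≫ (m x₀ x₁ e v).1, hw⟩ :=
          (mspec (T := Over.mk ((g ≫ x₀) ≫ P.hom)) (g ≫ x₀) (g ≫ x₁) e' v' ⟨_, hw⟩ (g' ≫ a) (g' ≫ b)
            (by show g ≫ a.left = v'.1; rw [ha, hv']) (by show g ≫ b.left = g ≫ _; rw [hb])).1
            (by rw [F.res_comp, F.res_comp, hab])
        exact congrArg Subtype.val key
      φ_self := fun _ x v => mself x v
      φ_comp := fun _ x₀ x₁ x₂ e₁ e₂ v => mcomp x₀ x₁ x₂ e₁ e₂ v }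
  obtain ⟨U, g, q, hq⟩ := DescLib.exists_isQuot_of_effective D (heff D rfl)
  have hrel : ∀ {T : Over S} (a b : T ⟶ A), DescLib.Rel D a.left b.left ↔ F.res a u = F.res b u := by
    intro T a b
    constructor
    · rintro ⟨e, he⟩
      exact (mspec _ _ e ⟨a.left, rfl⟩ ⟨b.left, rfl⟩ a b rfl rfl).2 (Subtype.ext he)
    · intro hab
      have e : (a.left ≫ π.left) ≫ P.hom = (b.left ≫ π.left) ≫ P.hom := by
        rw [Category.assoc, Category.assoc, Over.w π, Over.w, Over.w]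
      exact ⟨e, congrArg Subtype.val ((mspec _ _ e ⟨a.left, rfl⟩ ⟨b.left, rfl⟩ a b rfl rfl).1 hab)⟩
  have hpb : IsPullback q π.left g P.hom := by simpa [D] using hq.isPullback
  let A₀ : Over S := Over.mk g
  let q' : A ⟶ A₀ := Over.homMk q (by rw [show A₀.hom = g from rfl, hpb.w, Over.w π])
  haveI : DescLib.Fpqc q'.left := hq.fpqc
  obtain ⟨u₀, hu₀, -⟩ := hF.descend q' u fun T'' a b hab => by
    have := congrArg Over.Hom.left hab
    refine (hrel a b).1 ?_
    have r := hq.rel_of_eq (a := a.left) (b := b.left) this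
    simpa [D] using r
  refine ⟨A₀, u₀, q', fun T s => ?_, hu₀, hpb⟩
  -- the pullback of the covering to T
  let T' : Over S := Over.mk (pullback.fst T.hom P.hom ≫ T.hom)
  let c : T' ⟶ T := Over.homMk (pullback.fst T.hom P.hom) rfl
  let x : T' ⟶ P := Over.homMk (pullback.snd T.hom P.hom) pullback.condition.symm
  haveI hc : DescLib.Fpqc c.left := inferInstanceAs (DescLib.Fpqc (pullback.fst T.hom P.hom))
  have lift : ∀ a : T ⟶ A₀, ∃ a' : T' ⟶ A, a' ≫ q' = c ≫ a ∧ a' ≫ π = x := by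
    intro a
    let l := hpb.lift (c.left ≫ a.left) x.left (by
      rw [Category.assoc]
      exact (congrArg (c.left ≫ ·) (Over.w a)).trans ((Over.w c).trans (Over.w x).symm))
    refine ⟨Over.homMk l (by rw [← Over.w π, ← Category.assoc, hpb.lift_snd]; exact Over.w x), ?_, ?_⟩
    · exact Over.OverMorphism.ext (hpb.lift_fst _ _ _)
    · exact Over.OverMorphism.ext (hpb.lift_snd _ _ _)
  obtain ⟨b, ⟨hb₁, hb₂⟩, -⟩ := h T' x (F.res c s)
  have inv : ∀ {R : Scheme.{u}} (f₁ f₂ : R ⟶ T'.left), f₁ ≫ c.left = f₂ ≫ c.left →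
      f₁ ≫ (b ≫ q').left = f₂ ≫ (b ≫ q').left := by
    intro R f₁ f₂ e
    let R' : Over S := Over.mk (f₁ ≫ T'.hom)
    let g₁ : R' ⟶ T' := Over.homMk f₁
    let g₂ : R' ⟶ T' := Over.homMk f₂ (by
      show f₂ ≫ T'.hom = f₁ ≫ T'.hom
      rw [← Over.w c, ← Category.assoc, ← e, Category.assoc, Over.w c])
    have hg : g₁ ≫ c = g₂ ≫ c := Over.OverMorphism.ext e
    have r : DescLib.Rel D (g₁ ≫ b).left (g₂ ≫ b).left := (hrel (g₁ ≫ b) (g₂ ≫ b)).2 (by
      rw [F.res_comp, F.res_comp, hb₂, ← F.res_comp, ← F.res_comp, hg])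
    have := hq.rel (f₁ ≫ b.left) (f₂ ≫ b.left) (by rw [Category.comp_id, Category.comp_id]; exact r)
    simpa [q', Category.assoc] using this
  let a₀ : T.left ⟶ A₀.left := EffectiveEpi.desc c.left (b ≫ q').left inv
  have ha₀ : c.left ≫ a₀ = (b ≫ q').left := EffectiveEpi.fac _ _ _
  let a : T ⟶ A₀ := Over.homMk a₀ (by
    apply (cancel_epi c.left).1
    rw [← Category.assoc, ha₀, Over.w (b ≫ q')]
    exact (Over.w c).symm)
  have hca : c ≫ a = b ≫ q' := Over.OverMorphism.ext ha₀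
  have hsep : ∀ s₁ s₂ : F.obj T, F.res c s₁ = F.res c s₂ → s₁ = s₂ := fun s₁ s₂ e =>
    (hF.descend c (F.res c s₂) fun T'' g₁ g₂ hg => by rw [← F.res_comp, ← F.res_comp, hg]).unique e rfl
  refine ⟨a, hsep _ _ ?_, fun a' ha' => ?_⟩
  · rw [← F.res_comp, hca, F.res_comp, hu₀, hb₂]
  · obtain ⟨b', hb'₁, hb'₂⟩ := lift a'
    have : b' = b := h.hom_ext (hb'₂.trans hb₁.symm) (by
      rw [hb₂, ← hu₀, ← F.res_comp, hb'₁, F.res_comp, ha'])
    refine Over.OverMorphism.ext ((cancel_epi c.left).1 ?_)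
    rw [← Over.comp_left, ← Over.comp_left, ← hb'₁, this, hca]

/-- Representing objects on the pieces of a disjoint union combine. -/
theorem isRepOver_sigma (hF : IsSheaf F) {κ : Type u} {P A : κ → Over S} (π : ∀ i, A i ⟶ P i) (u : ∀ i, F.obj (A i))
    (h : ∀ i, IsRepOver F (π i) (u i)) :
    ∃ (A' : Over S) (π' : A' ⟶ Over.mk (Limits.Sigma.desc fun i => (P i).hom)) (u' : F.obj A'),
      IsRepOver F π' u' ∧ ∃ e : A'.left ≅ ∐ fun i => (A i).left,
        π'.left = e.hom ≫ Limits.Sigma.map fun i => (π i).left := by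
  let A' : Over S := Over.mk (Limits.Sigma.desc fun i => (A i).hom)
  let P' : Over S := Over.mk (Limits.Sigma.desc fun i => (P i).hom)
  let jA : ∀ i, A i ⟶ A' := fun i => Over.homMk (Sigma.ι (fun i => (A i).left) i) (Sigma.ι_desc _ _)
  let jP : ∀ i, P i ⟶ P' := fun i => Over.homMk (Sigma.ι (fun i => (P i).left) i) (Sigma.ι_desc _ _)
  let π' : A' ⟶ P' := Over.homMk (Limits.Sigma.map fun i => (π i).left) (by
    refine Sigma.hom_ext _ _ fun i => ?_
    simp [A', P'])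
  obtain ⟨u', hu', -⟩ := hF.glue A jA (fun i => inferInstanceAs (IsOpenImmersion (Sigma.ι (fun i => (A i).left) i)))
    (fun t => by obtain ⟨i, z, hz⟩ := DescLib.exists_sigma_mem t; exact ⟨i, z, hz⟩) u (by
    intro i i' T'' a b hab
    have hab' : a.left ≫ Sigma.ι (fun i => (A i).left) i = b.left ≫ Sigma.ι (fun i => (A i).left) i' :=
      congrArg Over.Hom.left hab
    by_cases hii : i = i'
    · subst hii
      obtain rfl : a = b := Over.OverMorphism.ext ((cancel_mono (Sigma.ι (fun i => (A i).left) i)).1 hab')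
      rfl
    · haveI : IsEmpty T''.left := isEmpty_of_commSq_sigmaι_of_ne ⟨hab'⟩ hii
      exact (hF.glue (ι := PEmpty.{u + 1}) (T := T'') (fun i => i.elim) (fun i => i.elim) (fun i => i.elim)
        (fun t => isEmptyElim t) (fun i => i.elim) (fun i => i.elim)).unique (fun i => i.elim) (fun i => i.elim))
  have sq : ∀ i, IsPullback (π i).left (jA i).left (jP i).left π'.left := fun i =>
    DescLib.isPullback_sigmaι_map (fun i => (π i).left) i
  refine ⟨A', π', u', ?_, Iso.refl _, (Category.id_comp _).symm⟩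
  intro T x s
  let U : κ → Over S := fun i => Over.mk (pullback.fst x.left (jP i).left ≫ T.hom)
  let j : ∀ i, U i ⟶ T := fun i => Over.homMk (pullback.fst x.left (jP i).left) rfl
  let y : ∀ i, U i ⟶ P i := fun i => Over.homMk (pullback.snd x.left (jP i).left) (by
    show pullback.snd x.left (jP i).left ≫ (P i).hom = pullback.fst x.left (jP i).left ≫ T.hom
    rw [← Over.w (jP i), ← pullback.condition_assoc, Over.w x])
  have hy : ∀ i, y i ≫ jP i = j i ≫ x := fun i => Over.OverMorphism.ext pullback.condition.symm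
  have hjoi : ∀ i, IsOpenImmersion (j i).left := fun i => by
    haveI : IsOpenImmersion (jP i).left := inferInstanceAs (IsOpenImmersion (Sigma.ι (fun i => (P i).left) i))
    exact inferInstanceAs (IsOpenImmersion (pullback.fst x.left (jP i).left))
  have hjcov : ∀ t, ∃ i, t ∈ Set.range (j i).left := fun t => by
    obtain ⟨i, z, hz⟩ := DescLib.exists_sigma_mem (x.left t)
    obtain ⟨w, hw, -⟩ := Scheme.Pullback.exists_preimage_pullback (f := x.left) (g := (jP i).left) t z hz.symm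
    exact ⟨i, w, hw⟩
  let 𝒰 : T.left.OpenCover := Scheme.Cover.mkOfCovers (P := @IsOpenImmersion) κ (fun i => (U i).left)
    (fun i => (j i).left) (fun t => (hjcov t).imp fun i hi => hi) hjoi
  choose a ha hau using fun i => h i (U i) (y i) (F.res (j i) s)
  have agree : ∀ i i', pullback.fst (j i).left (j i').left ≫ (a i ≫ jA i).left =
      pullback.snd (j i).left (j i').left ≫ (a i' ≫ jA i').left := by
    intro i i'
    by_cases hii : i = i'
    · subst hii
      haveI := hjoi i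
      rw [(cancel_mono (j i).left).1 (pullback.condition (f := (j i).left) (g := (j i).left))]
    · have hsq : (pullback.fst (j i).left (j i').left ≫ (y i).left) ≫ (jP i).left =
          (pullback.snd (j i).left (j i').left ≫ (y i').left) ≫ (jP i').left := by
        rw [Category.assoc, Category.assoc, ← Over.comp_left, ← Over.comp_left, hy, hy, Over.comp_left,
          Over.comp_left, pullback.condition_assoc]
      haveI : IsEmpty ↑(pullback (j i).left (j i').left) :=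
        isEmpty_of_commSq_sigmaι_of_ne (g := fun i => (P i).left) ⟨hsq⟩ hii
      exact (isInitialOfIsEmpty (X := pullback (j i).left (j i').left)).hom_ext _ _
  let a₀ : T.left ⟶ A'.left := 𝒰.glueMorphisms (fun i => (a i ≫ jA i).left) agree
  have ha₀ : ∀ i, (j i).left ≫ a₀ = (a i ≫ jA i).left := fun i => 𝒰.ι_glueMorphisms _ agree i
  let aT : T ⟶ A' := Over.homMk a₀ (by
    refine 𝒰.hom_ext _ _ fun i => ?_
    show (j i).left ≫ a₀ ≫ A'.hom = (j i).left ≫ T.hom
    rw [← Category.assoc, ha₀, Over.w (a i ≫ jA i)]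
    exact (Over.w (j i)).symm)
  have hja : ∀ i, j i ≫ aT = a i ≫ jA i := fun i => Over.OverMorphism.ext (ha₀ i)
  have hπ : ∀ i, jA i ≫ π' = π i ≫ jP i := fun i => Over.OverMorphism.ext (sq i).w.symm
  refine ⟨aT, ⟨?_, ?_⟩, fun b ⟨hb₁, hb₂⟩ => ?_⟩
  · refine Over.OverMorphism.ext (𝒰.hom_ext _ _ fun i => ?_)
    show (j i ≫ aT ≫ π').left = (j i ≫ x).left
    rw [← Category.assoc, hja, Category.assoc, hπ, ← Category.assoc, (ha i).1, hy]
  · exact (hF.glue U j hjoi hjcov (fun i => F.res (j i) s) fun i i' T'' g g' hg => by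
      rw [← F.res_comp, ← F.res_comp, hg]).unique
      (fun i => by rw [← F.res_comp, hja, F.res_comp, hu', (ha i).2]) (fun i => rfl)
  · refine Over.OverMorphism.ext (𝒰.hom_ext _ _ fun i => ?_)
    show (j i ≫ b).left = (j i ≫ aT).left
    let l := (sq i).lift (y i).left (j i ≫ b).left (by
      show (y i ≫ jP i).left = ((j i ≫ b) ≫ π').left
      rw [hy, Category.assoc, hb₁])
    let b' : U i ⟶ A i := Over.homMk l (by
      rw [← Over.w (π i), ← Category.assoc, (sq i).lift_fst]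
      exact Over.w (y i))
    have h₁ : b' ≫ π i = y i := Over.OverMorphism.ext ((sq i).lift_fst _ _ _)
    have h₂ : b' ≫ jA i = j i ≫ b := Over.OverMorphism.ext ((sq i).lift_snd _ _ _)
    have h₃ : F.res b' (u i) = F.res (j i) s := by rw [← hu', ← F.res_comp, h₂, F.res_comp, hb₂]
    rw [hja, ← hau i b' ⟨h₁, h₃⟩, h₂]

end RepDescLib
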