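import Groth.Agent.RepDescLib.Hom
import Groth.Agent.DSPtsLib.Basic
import Groth.Prelude.Def_TwC
import Mathlib.GroupTheory.Abelianization.Defs

/-!
Characters of a group which is constant over a piece of the base.
-/

set_option autoImplicit false
set_option backward.isDefEq.respectTransparency false

noncomputable section

universe u

open CategoryTheory CategoryTheory.Limits MonoidalCategory CartesianMonoidalCategory AlgebraicGeometry
open scoped MonObj

namespace RepDescLib

open DSPtsLib (dsPt gmPt)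

variable {S : Scheme.{u}}

theorem gm_comm {T : Over S} (a b : T ⟶ Red.Gm S) : a * b = b * a := by
  obtain ⟨r, rfl⟩ := (DSPtsLib.gmPt_bijective T).2 a
  obtain ⟨r', rfl⟩ := (DSPtsLib.gmPt_bijective T).2 b
  rw [← DSPtsLib.gmPt_mul, ← DSPtsLib.gmPt_mul, _root_.mul_comm]

/-- The unit of the multiplicative group attached to a point. -/
def gmInv {T : Over S} (h : T ⟶ Red.Gm S) : (Γ(T.left, ⊤))ˣ :=
  ((DSPtsLib.gmPt_bijective T).2 h).choose

theorem gmPt_gmInv {T : Over S} (h : T ⟶ Red.Gm S) : gmPt (gmInv h) = h :=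
  ((DSPtsLib.gmPt_bijective T).2 h).choose_spec

theorem gmInv_gmPt {T : Over S} (r : (Γ(T.left, ⊤))ˣ) : gmInv (S := S) (gmPt r) = r :=
  (DSPtsLib.gmPt_bijective T).1 (gmPt_gmInv _)

theorem gmInv_mul {T : Over S} (g h : T ⟶ Red.Gm S) : gmInv (g * h) = gmInv g * gmInv h :=
  (DSPtsLib.gmPt_bijective T).1 (by rw [gmPt_gmInv, DSPtsLib.gmPt_mul, gmPt_gmInv, gmPt_gmInv])

theorem isHomFamily_gm_mul {H : Over S} [GrpObj H] {T : Over S} {φ ψ : H ⊗ T ⟶ Red.Gm S}
    (hφ : AutFam.IsHomFamily H (Red.Gm S) φ) (hψ : AutFam.IsHomFamily H (Red.Gm S) ψ) :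
    AutFam.IsHomFamily H (Red.Gm S) (φ * ψ) := by
  intro X g₁ g₂ t
  rw [MonObj.comp_mul, MonObj.comp_mul, MonObj.comp_mul, hφ, hψ, _root_.mul_assoc, _root_.mul_assoc,
    ← _root_.mul_assoc (lift g₂ t ≫ φ), gm_comm (lift g₂ t ≫ φ), _root_.mul_assoc]

/-- A group that is constant over a piece of the base, given by its sections. -/
structure ConstChart (R : Over S) [GrpObj R] (P : Over S) (M : Type) [Group M] where
  /-- the sections -/
  sec : M → (P ⟶ R)
  sec_mul : ∀ m n, sec (m * n) = sec m * sec n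
  /-- the index -/
  proj : ∀ {T : Over S}, (T ⟶ P) → (T ⟶ R) → (T.left ⟶ ∐ fun _ : M => P.left)
  sec_spec : ∀ {T : Over S} (x : T ⟶ P) (r : T ⟶ R) (m : M),
    proj x r = x.left ≫ Sigma.ι (fun _ : M => P.left) m ↔ r = x ≫ sec m
  proj_natural : ∀ {T' T : Over S} (a : T' ⟶ T) (x : T ⟶ P) (r : T ⟶ R), proj (a ≫ x) (a ≫ r) = a.left ≫ proj x r
  proj_desc : ∀ {T : Over S} (x : T ⟶ P) (r : T ⟶ R), proj x r ≫ (Sigma.desc fun _ : M => 𝟙 P.left) = x.left

variable {R P : Over S} [GrpObj R] {M : Type} [Group M] (C : ConstChart R P M)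

/-- The index of a section with given first coordinate. -/
def piece {T : Over S} (x : T ⟶ P) (m : M) : T ⟶ R ⊗ T := lift (x ≫ C.sec m) (𝟙 T)

theorem comp_piece {T' T : Over S} (a : T' ⟶ T) (x : T ⟶ P) (m : M) :
    a ≫ piece C x m = lift (a ≫ x ≫ C.sec m) a := by
  simp [piece]

theorem isOpenImmersion_piece {T : Over S} (x : T ⟶ P) (m : M) : IsOpenImmersion (piece C x m).left := by
  let c := C.proj (snd R T ≫ x) (fst R T)
  have sq : IsPullback (piece C x m).left x.left c (Sigma.ι (fun _ : M => P.left) m) := by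
    have hw : (piece C x m).left ≫ c = x.left ≫ Sigma.ι (fun _ : M => P.left) m := by
      rw [← C.proj_natural, piece, lift_snd_assoc, Category.id_comp, lift_fst]
      exact (C.sec_spec x (x ≫ C.sec m) m).2 rfl
    refine IsPullback.of_isLimit' ⟨hw⟩ (PullbackCone.IsLimit.mk hw (fun s => s.fst ≫ (snd R T).left) ?_ ?_ ?_)
    · intro s
      let Z : Over S := Over.mk (s.fst ≫ (R ⊗ T).hom)
      let a : Z ⟶ R ⊗ T := Over.homMk s.fst
      have hx : (a ≫ snd R T ≫ x).left = s.snd := by
        have := s.condition =≫ (Sigma.desc fun _ : M => 𝟙 P.left)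
        rw [Category.assoc, Category.assoc, C.proj_desc, Sigma.ι_desc, Category.comp_id] at this
        exact this
      have h1 : C.proj (a ≫ snd R T ≫ x) (a ≫ fst R T) =
          (a ≫ snd R T ≫ x).left ≫ Sigma.ι (fun _ : M => P.left) m := by
        rw [C.proj_natural, hx]
        exact s.condition
      have h2 := (C.sec_spec _ _ m).1 h1
      have h3 : (a ≫ snd R T) ≫ piece C x m = a := by
        rw [comp_piece]
        ext1
        · simpa using h2.symm
        · simp
      exact congrArg Over.Hom.left h3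
    · intro s
      have := s.condition =≫ (Sigma.desc fun _ : M => 𝟙 P.left)
      rw [Category.assoc, Category.assoc, C.proj_desc, Sigma.ι_desc, Category.comp_id] at this
      rw [Category.assoc, ← this]
      rfl
    · intro s l hl _
      rw [← hl, Category.assoc, ← Over.comp_left, piece, lift_snd]
      exact (Category.comp_id _).symm
  exact MorphismProperty.of_isPullback (P := @IsOpenImmersion) sq.flip inferInstance

theorem piece_covers {T : Over S} (x : T ⟶ P) (z : (R ⊗ T).left) : ∃ m, z ∈ Set.range (piece C x m).left := by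
  let c := C.proj (snd R T ≫ x) (fst R T)
  obtain ⟨m, y, hy⟩ := DescLib.exists_sigma_mem (c z)
  let Z : Over S := Over.mk (pullback.fst c (Sigma.ι (fun _ : M => P.left) m) ≫ (R ⊗ T).hom)
  let a : Z ⟶ R ⊗ T := Over.homMk (pullback.fst c (Sigma.ι (fun _ : M => P.left) m))
  obtain ⟨w, hw, -⟩ := Scheme.Pullback.exists_preimage_pullback (f := c)
    (g := Sigma.ι (fun _ : M => P.left) m) z y hy.symm
  have hx : (a ≫ snd R T ≫ x).left = pullback.snd c (Sigma.ι (fun _ : M => P.left) m) := by
    have := pullback.condition (f := c) (g := Sigma.ι (fun _ : M => P.left) m) =≫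
      (Sigma.desc fun _ : M => 𝟙 P.left)
    rw [Category.assoc, Category.assoc, C.proj_desc, Sigma.ι_desc, Category.comp_id] at this
    exact this
  have h1 : C.proj (a ≫ snd R T ≫ x) (a ≫ fst R T) = (a ≫ snd R T ≫ x).left ≫ Sigma.ι (fun _ : M => P.left) m := by
    rw [C.proj_natural, hx]
    exact pullback.condition
  have h3 : (a ≫ snd R T) ≫ piece C x m = a := by
    rw [comp_piece]
    ext1
    · simpa using ((C.sec_spec _ _ m).1 h1).symm
    · simp
  refine ⟨m, (a ≫ snd R T).left w, ?_⟩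
  rw [← Scheme.Hom.comp_apply, ← Over.comp_left, h3]
  exact hw

theorem piece_agree {T : Over S} (x : T ⟶ P) {Y : Over S} (v : M → (T ⟶ Y)) (m m' : M) (T'' : Over S)
    (a b : T'' ⟶ T) (e : a ≫ piece C x m = b ≫ piece C x m') : a ≫ v m = b ≫ v m' := by
  have hab : a = b := by simpa [piece] using e =≫ snd R T
  subst hab
  by_cases hmm : m = m'
  · rw [hmm]
  · have h1 : (a ≫ x) ≫ C.sec m = (a ≫ x) ≫ C.sec m' := by simpa [piece] using e =≫ fst R T
    have h2 := ((C.sec_spec (a ≫ x) _ m).2 rfl).symm.trans ((C.sec_spec (a ≫ x) _ m').2 h1)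
    haveI : IsEmpty T''.left := isEmpty_of_commSq_sigmaι_of_ne (g := fun _ : M => P.left) ⟨h2⟩ hmm
    exact Over.OverMorphism.ext ((isInitialOfIsEmpty (X := T''.left)).hom_ext _ _)

theorem hom_ext_piece {T : Over S} (x : T ⟶ P) {Y : Over S} {φ ψ : R ⊗ T ⟶ Y}
    (h : ∀ m, piece C x m ≫ φ = piece C x m ≫ ψ) : φ = ψ :=
  (hom_glue (fun _ : ULift.{u} M => T) (fun m => piece C x m.down) (fun m => isOpenImmersion_piece C x m.down)
    (fun z => (piece_covers C x z).elim fun m hm => ⟨⟨m⟩, hm⟩) (fun m => piece C x m.down ≫ ψ)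
    fun i i' T'' a b e => by rw [← Category.assoc, e, Category.assoc]).unique (fun m => h m.down) (fun _ => rfl)

theorem exists_glue_piece {T : Over S} (x : T ⟶ P) {Y : Over S} (v : M → (T ⟶ Y)) :
    ∃ φ : R ⊗ T ⟶ Y, ∀ m, piece C x m ≫ φ = v m :=
  (hom_glue (fun _ : ULift.{u} M => T) (fun m => piece C x m.down) (fun m => isOpenImmersion_piece C x m.down)
    (fun z => (piece_covers C x z).elim fun m hm => ⟨⟨m⟩, hm⟩) (fun m => v m.down)
    fun i i' T'' a b e => piece_agree C x v i.down i'.down T'' a b e).exists.imp fun φ h m => h ⟨m⟩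

theorem piece_natural {T' T : Over S} (a : T' ⟶ T) (x : T ⟶ P) (m : M) :
    piece C (a ≫ x) m ≫ (R ◁ a) = a ≫ piece C x m := by
  rw [comp_piece]; simp [piece]

theorem lift_secs {T : Over S} (x : T ⟶ P) {X : Over S} (t : X ⟶ T) (m : M) :
    lift (t ≫ x ≫ C.sec m) t = t ≫ piece C x m := (comp_piece C t x m).symm

theorem isHomFamily_iff {T : Over S} (x : T ⟶ P) (φ : R ⊗ T ⟶ Red.Gm S) :
    AutFam.IsHomFamily R (Red.Gm S) φ ↔ ∀ m n, piece C x (m * n) ≫ φ = (piece C x m ≫ φ) * (piece C x n ≫ φ) := by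
  constructor
  · intro h m n
    have := h T (x ≫ C.sec m) (x ≫ C.sec n) (𝟙 T)
    rw [← MonObj.comp_mul, ← C.sec_mul] at this
    exact this
  · intro h X g₁ g₂ t
    -- pieces of X on which both points are constant
    let p₁ := lift g₁ t
    let p₂ := lift g₂ t
    let U : ULift.{u} (M × M) → Over S := fun i => Over.mk
      (pullback.fst (pullback.fst p₁.left (piece C x i.down.1).left ≫ p₂.left) (piece C x i.down.2).left ≫
        pullback.fst p₁.left (piece C x i.down.1).left ≫ X.hom)
    let j : ∀ i, U i ⟶ X := fun i => Over.homMk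
      (pullback.fst (pullback.fst p₁.left (piece C x i.down.1).left ≫ p₂.left) (piece C x i.down.2).left ≫
        pullback.fst p₁.left (piece C x i.down.1).left) (Category.assoc _ _ _)
    have hj : ∀ i, IsOpenImmersion (j i).left := fun i =>
      haveI := isOpenImmersion_piece C x i.down.1
      haveI := isOpenImmersion_piece C x i.down.2
      inferInstanceAs (IsOpenImmersion
        (pullback.fst (pullback.fst p₁.left (piece C x i.down.1).left ≫ p₂.left) (piece C x i.down.2).left ≫
          pullback.fst p₁.left (piece C x i.down.1).left))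
    have hcov : ∀ z, ∃ i, z ∈ Set.range (j i).left := fun z => by
      obtain ⟨m, y, hy⟩ := piece_covers C x (p₁.left z)
      obtain ⟨w, hw, -⟩ := Scheme.Pullback.exists_preimage_pullback (f := p₁.left) (g := (piece C x m).left) z y hy.symm
      obtain ⟨n, y', hy'⟩ := piece_covers C x ((pullback.fst p₁.left (piece C x m).left ≫ p₂.left) w)
      obtain ⟨w', hw', -⟩ := Scheme.Pullback.exists_preimage_pullback
        (f := pullback.fst p₁.left (piece C x m).left ≫ p₂.left) (g := (piece C x n).left) w y' hy'.symm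
      refine ⟨⟨(m, n)⟩, w', ?_⟩
      show (pullback.fst (pullback.fst p₁.left (piece C x m).left ≫ p₂.left) (piece C x n).left ≫
        pullback.fst p₁.left (piece C x m).left) w' = z
      rw [Scheme.Hom.comp_apply, hw', hw]
    refine (hom_glue U j hj hcov (fun i => j i ≫ lift (g₁ * g₂) t ≫ φ)
      fun i i' T'' a b e => by rw [← Category.assoc, e, Category.assoc]).unique (fun i => rfl) fun i => ?_
    -- on a piece
    let b₁ : U i ⟶ T := Over.homMk (pullback.fst _ _ ≫ pullback.snd p₁.left (piece C x i.down.1).left) (by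
      rw [← Over.w (piece C x i.down.1), Category.assoc, ← pullback.condition_assoc, Over.w p₁]
      rfl)
    let b₂ : U i ⟶ T := Over.homMk (pullback.snd _ (piece C x i.down.2).left) (by
      rw [← Over.w (piece C x i.down.2), ← pullback.condition_assoc]
      simp only [Category.assoc]
      rw [Over.w p₂]
      rfl)
    have e₁ : j i ≫ p₁ = b₁ ≫ piece C x i.down.1 := Over.OverMorphism.ext (by
      show (_ ≫ _) ≫ p₁.left = (_ ≫ _) ≫ (piece C x i.down.1).left
      rw [Category.assoc, pullback.condition, Category.assoc])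
    have e₂ : j i ≫ p₂ = b₂ ≫ piece C x i.down.2 := Over.OverMorphism.ext (by
      show (_ ≫ _) ≫ p₂.left = _ ≫ (piece C x i.down.2).left
      rw [Category.assoc]
      exact pullback.condition)
    have t₁ : j i ≫ t = b₁ := by simpa [p₁, piece] using e₁ =≫ snd R T
    have t₂ : j i ≫ t = b₂ := by simpa [p₂, piece] using e₂ =≫ snd R T
    have r₁ : j i ≫ g₁ = b₁ ≫ x ≫ C.sec i.down.1 := by simpa [p₁, piece] using e₁ =≫ fst R T
    have r₂ : j i ≫ g₂ = b₁ ≫ x ≫ C.sec i.down.2 := by
      rw [← t₁, t₂]; simpa [p₂, piece] using e₂ =≫ fst R T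
    have r₃ : lift (j i ≫ (g₁ * g₂)) (j i ≫ t) = b₁ ≫ piece C x (i.down.1 * i.down.2) := by
      rw [MonObj.comp_mul, r₁, r₂, t₁, comp_piece, C.sec_mul]
      simp [MonObj.comp_mul]
    show j i ≫ ((lift g₁ t ≫ φ) * (lift g₂ t ≫ φ)) = j i ≫ lift (g₁ * g₂) t ≫ φ
    rw [← Category.assoc (j i) (lift (g₁ * g₂) t), comp_lift, r₃, Category.assoc, h, MonObj.comp_mul,
      MonObj.comp_mul, ← Category.assoc, ← Category.assoc (j i) (lift g₂ t), e₁, e₂,
      ← t₂, t₁, Category.assoc, Category.assoc]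

/-- The character of a family of homomorphisms. -/
def charOf {T : Over S} (x : T ⟶ P) (φ : R ⊗ T ⟶ Red.Gm S) (hφ : AutFam.IsHomFamily R (Red.Gm S) φ) :
    M →* (Γ(T.left, ⊤))ˣ :=
  MonoidHom.mk' (fun m => gmInv (piece C x m ≫ φ)) fun m n => by
    rw [(isHomFamily_iff C x φ).1 hφ, gmInv_mul]

include C in
/-- The constant group over the piece has a diagonalisable group of characters. -/
theorem exists_isRepOver_chart :
    ∃ (A : Over S) (π : A ⟶ P) (u : (homSec R (Red.Gm S)).obj A),
      IsRepOver (homSec R (Red.Gm S)) π u ∧ IsAffineHom π.left := by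
  let M' : Type := Additive (Abelianization M)
  let A : Over S := Red.DS S M' ⊗ P
  let π : A ⟶ P := snd _ _
  let toM' : M →* Multiplicative M' :=
    MonoidHom.mk' (fun m => Multiplicative.ofAdd (Additive.ofMul (Abelianization.of m))) fun m n => by
      simp [map_mul]
  let outM' : Multiplicative M' →* Abelianization M :=
    MonoidHom.mk' (fun y => Additive.toMul (Multiplicative.toAdd y)) fun y z => rfl
  obtain ⟨χ₀, hχ₀⟩ := (DSPtsLib.dsPt_bijective (M := M') A).2 (fst _ _)
  obtain ⟨φu, hu⟩ := exists_glue_piece C π fun m => gmPt (χ₀.toHomUnits (toM' m))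
  have hfam : AutFam.IsHomFamily R (Red.Gm S) φu := (isHomFamily_iff C π φu).2 fun m n => by
    rw [hu, hu, hu, map_mul, map_mul, DSPtsLib.gmPt_mul]
  refine ⟨A, π, ⟨φu, hfam⟩, fun T x s => ?_, ?_⟩
  · obtain ⟨φ, hφ⟩ := s
    let χ : M →* (Γ(T.left, ⊤))ˣ := charOf C x φ hφ
    let χ' : Multiplicative M' →* Γ(T.left, ⊤) :=
      (Units.coeHom _).comp ((Abelianization.lift χ).comp outM')
    let a : T ⟶ A := lift (dsPt χ') x
    have hval : ∀ (b : T ⟶ A), b ≫ π = x → ∀ m,
        piece C x m ≫ (R ◁ b) ≫ φu = gmPt (Units.map b.left.appTop.hom.toMonoidHom (χ₀.toHomUnits (toM' m))) := by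
      intro b hb m
      rw [← hb, ← Category.assoc, piece_natural, Category.assoc, hu, DSPtsLib.gmPt_natural]
    have hchar : ∀ (b : T ⟶ A), b ≫ fst _ _ = dsPt (b.left.appTop.hom.toMonoidHom.comp χ₀) := fun b => by
      rw [← hχ₀, DSPtsLib.dsPt_natural]
    refine ⟨a, ⟨lift_snd _ _, Subtype.ext (hom_ext_piece C x fun m => ?_)⟩, fun b ⟨hb₁, hb₂⟩ => ?_⟩
    · show piece C x m ≫ (R ◁ a) ≫ φu = piece C x m ≫ φ
      rw [hval a (lift_snd _ _) m, ← gmPt_gmInv (piece C x m ≫ φ)]
      refine congrArg gmPt (Units.ext ?_)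
      have h1 := (DSPtsLib.dsPt_bijective (M := M') T).1 ((hchar a).symm.trans (lift_fst _ _))
      exact DFunLike.congr_fun h1 (toM' m)
    · refine hom_ext _ _ ?_ (hb₁.trans (lift_snd _ _).symm)
      rw [hchar b, lift_fst]
      congr 1
      refine MonoidHom.ext fun y => ?_
      obtain ⟨m, rfl⟩ : ∃ m, toM' m = y := by
        obtain ⟨m, hm⟩ := QuotientGroup.mk'_surjective _ (outM' y)
        exact ⟨m, hm ▸ rfl⟩
      have h1 : piece C x m ≫ (R ◁ b) ≫ φu = piece C x m ≫ φ :=
        congrArg (fun z : (homSec R (Red.Gm S)).obj T => piece C x m ≫ z.1) hb₂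
      rw [hval b hb₁ m, ← gmPt_gmInv (piece C x m ≫ φ)] at h1
      exact congrArg Units.val ((DSPtsLib.gmPt_bijective T).1 h1)
  · haveI : IsAffine (Red.diag (ULift.{u} ℤ) M').left := isAffine_Spec _
    haveI : IsAffineHom (Red.DS S M').hom :=
      MorphismProperty.pullback_snd (P := @IsAffineHom) _ _ (isAffineHom_of_isAffine _)
    exact MorphismProperty.pullback_snd (P := @IsAffineHom) _ _ inferInstance

end RepDescLib
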